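import Groth.Agent.ParaFX.Ufd
import Groth.Agent.CompleteNagata.Complete
import Groth.Agent.S0543
import Groth.Agent.S0547
import Mathlib

/-!
# The punctured spectrum of a Noetherian local ring of dimension at least two is not affine
-/

set_option autoImplicit false

universe u

open CategoryTheory AlgebraicGeometry TopologicalSpace IsLocalRing Opposite

namespace Groth.Agent.PunctAffine

/-- The preimage of the punctured spectrum under a map whose only point over the closed point is closed. -/
theorem preimage_eq {A B : Type u} [CommRing A] [IsLocalRing A] [CommRing B] [IsLocalRing B] (f : A →+* B)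
    (hf : ∀ q : Ideal B, q.IsPrime → (q.comap f = maximalIdeal A ↔ q = maximalIdeal B)) :
    Spec.map (CommRingCat.ofHom f) ⁻¹ᵁ FEt.puncturedSpec A = FEt.puncturedSpec B := by
  refine TopologicalSpace.Opens.ext (Set.ext fun q => not_congr ?_)
  show PrimeSpectrum.comap f q = closedPoint A ↔ q = closedPoint B
  exact (PrimeSpectrum.ext_iff.trans (hf (q : PrimeSpectrum B).asIdeal (q : PrimeSpectrum B).isPrime)).trans
    PrimeSpectrum.ext_iff.symm

/-- The normal case. -/
theorem not_isAffineOpen_of_normal (A : Type u) [CommRing A] [IsDomain A] [IsNoetherianRing A]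
    [IsLocalRing A] [IsIntegrallyClosed A] (hdim : (2 : WithBot ℕ∞) ≤ ringKrullDim A) :
    ¬ IsAffineOpen (FEt.puncturedSpec A) := by
  intro hV
  have hb := ParaFX.punctured_bijective A (ParaFX.two_le_depth_of_normal A hdim)
  haveI : IsIso ((Spec (CommRingCat.of A)).presheaf.map
      (homOfLE (le_top : FEt.puncturedSpec A ≤ ⊤)).op) :=
    (ConcreteCategory.isIso_iff_bijective _).2 hb
  have he := (isAffineOpen_top (Spec (CommRingCat.of A))).map_fromSpec hV
    (homOfLE (le_top : FEt.puncturedSpec A ≤ ⊤)).op
  haveI : IsIso (isAffineOpen_top (Spec (CommRingCat.of A))).fromSpec := by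
    rw [IsAffineOpen.fromSpec_top]; infer_instance
  haveI : IsIso hV.fromSpec := he ▸ inferInstance
  have hr := hV.range_fromSpec
  rw [Set.range_eq_univ.2 (show Function.Surjective hV.fromSpec from hV.fromSpec.homeomorph.surjective)] at hr
  exact (hr.le (Set.mem_univ (closedPoint A))) rfl

theorem exists_three_chain (A : Type u) [CommRing A] (h : (2 : WithBot ℕ∞) ≤ ringKrullDim A) :
    ∃ p q r : PrimeSpectrum A, p < q ∧ q < r := by
  obtain ⟨l, hl⟩ := Order.le_krullDim_iff.1 (show ((2 : ℕ) : WithBot ℕ∞) ≤ Order.krullDim (PrimeSpectrum A) from h)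
  exact ⟨l ⟨0, by omega⟩, l ⟨1, by omega⟩, l ⟨2, by omega⟩,
    l.strictMono (by simp [Fin.lt_def]), l.strictMono (by simp [Fin.lt_def])⟩

/-- A normal local Noetherian domain of dimension at least two above a complete local domain. -/
theorem exists_normal_of_complete (D : Type u) [CommRing D] [IsDomain D] [IsLocalRing D] [IsNoetherianRing D]
    (hN2 : CAlg.IsN2 D) (hdim : (2 : WithBot ℕ∞) ≤ ringKrullDim D) :
    ∃ (B : Type u) (_ : CommRing B) (_ : IsDomain B) (_ : IsNoetherianRing B) (_ : IsLocalRing B)
      (_ : IsIntegrallyClosed B) (f : D →+* B), (2 : WithBot ℕ∞) ≤ ringKrullDim B ∧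
        ∀ q : Ideal B, q.IsPrime → (q.comap f = maximalIdeal D ↔ q = maximalIdeal B) := by
  have hfin : Module.Finite D (integralClosure D (FractionRing D)) := hN2 (FractionRing D) inferInstance
  let D' := integralClosure D (FractionRing D)
  haveI : IsIntegrallyClosed D' := integralClosure.isIntegrallyClosedOfFiniteExtension (FractionRing D)
  haveI : IsNoetherianRing D' := isNoetherian_of_tower D inferInstance
  haveI : Algebra.IsIntegral D D' := Algebra.IsIntegral.of_finite D D'
  have hinj : Function.Injective (algebraMap D D') := fun a b h =>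
    IsFractionRing.injective D (FractionRing D) (congrArg Subtype.val h)
  obtain ⟨p, q, r, hpq, hqr⟩ := exists_three_chain D hdim
  have hq0 : (⊥ : Ideal D) < q.asIdeal := lt_of_le_of_lt bot_le (show p.asIdeal < q.asIdeal from hpq)
  obtain ⟨Q, -, hQp, hQ⟩ := Ideal.exists_ideal_over_prime_of_isIntegral q.asIdeal (⊥ : Ideal D')
    (by rw [Ideal.comap_bot_of_injective _ hinj]; exact bot_le)
  obtain ⟨R, hQR, hRp, hR⟩ := Ideal.exists_ideal_over_prime_of_isIntegral r.asIdeal Q
    (by rw [hQ]; exact le_of_lt (show q.asIdeal < r.asIdeal from hqr))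
  obtain ⟨M, hM, hRM⟩ := Ideal.exists_le_maximal R hRp.ne_top
  have hQR' : Q < R := lt_of_le_of_ne hQR fun e => by
    have h' : q.asIdeal = r.asIdeal := by rw [← hQ, ← hR, e]
    exact (ne_of_lt hqr) (PrimeSpectrum.ext h')
  have hQ0 : (⊥ : Ideal D') < Q := lt_of_le_of_ne bot_le fun e => by
    rw [← e, Ideal.comap_bot_of_injective _ hinj] at hQ
    exact hq0.ne hQ
  haveI : (⊥ : Ideal D').IsPrime := Ideal.isPrime_bot
  have hh : (2 : ℕ∞) ≤ M.height := by
    have h1 : (⊥ : Ideal D').height + 1 ≤ Q.height := Ideal.height_add_one_le_of_lt_of_isPrime hQ0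
    have h2 : Q.height + 1 ≤ M.height := Ideal.height_add_one_le_of_lt_of_isPrime (hQR'.trans_le hRM)
    refine le_trans ?_ h2
    calc (2 : ℕ∞) = 1 + 1 := by norm_num
      _ ≤ Q.height + 1 := by gcongr; exact le_trans le_add_self h1
  haveI : IsDomain (Localization.AtPrime M) :=
    IsLocalization.isDomain_localization (Ideal.primeCompl_le_nonZeroDivisors M)
  haveI : IsNoetherianRing (Localization.AtPrime M) := IsLocalization.isNoetherianRing M.primeCompl _ ‹_›
  haveI : IsIntegrallyClosed (Localization.AtPrime M) :=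
    isIntegrallyClosed_of_isLocalization _ M.primeCompl (Ideal.primeCompl_le_nonZeroDivisors M)
  refine ⟨Localization.AtPrime M, inferInstance, inferInstance, inferInstance, inferInstance, inferInstance,
    (algebraMap D' (Localization.AtPrime M)).comp (algebraMap D D'), ?_, fun s hs => ?_⟩
  · rw [IsLocalization.AtPrime.ringKrullDim_eq_height M (Localization.AtPrime M)]
    exact WithBot.coe_le_coe.2 hh
  · rw [← Ideal.comap_comap]
    have hsM : s.comap (algebraMap D' (Localization.AtPrime M)) ≤ M := by
      exact (Ideal.comap_mono (le_maximalIdeal hs.ne_top)).trans_eq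
        (IsLocalization.AtPrime.comap_maximalIdeal _ M)
    constructor
    · intro h
      haveI : (s.comap (algebraMap D' (Localization.AtPrime M))).IsPrime := Ideal.IsPrime.comap _
      have := Ideal.isMaximal_of_isIntegral_of_isMaximal_comap (R := D)
        (s.comap (algebraMap D' (Localization.AtPrime M))) (by rw [h]; infer_instance)
      have e := this.eq_of_le hM.ne_top hsM
      rw [← IsLocalization.map_comap M.primeCompl (Localization.AtPrime M) s,
        show Ideal.under D' s = M from e, Localization.AtPrime.map_eq_maximalIdeal]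
    · rintro rfl
      refine (congrArg (Ideal.comap (algebraMap D D'))
        (IsLocalization.AtPrime.comap_maximalIdeal (Localization.AtPrime M) M)).trans ?_
      exact eq_maximalIdeal (Ideal.isMaximal_comap_of_isIntegral_of_isMaximal M)

/-- If the punctured spectrum of a Noetherian local ring is affine, its dimension is at most one. -/
theorem dim_le_one (A : Type u) [CommRing A] [IsLocalRing A] [IsNoetherianRing A]
    (hV : IsAffineOpen (FEt.puncturedSpec A)) : ringKrullDim A ≤ 1 := by
  by_contra hA
  have hdim : (2 : WithBot ℕ∞) ≤ ringKrullDim A := by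
    have h1 : (1 : WithBot ℕ∞) < ringKrullDim A := not_le.1 hA
    obtain ⟨d, hd⟩ := WithBot.ne_bot_iff_exists.1 (ne_bot_of_gt h1)
    rw [← hd] at h1 ⊢
    exact WithBot.coe_le_coe.2 (Order.add_one_le_of_lt (WithBot.coe_lt_coe.1 (show ((1 : ℕ∞) : WithBot ℕ∞) < d from h1)))
  let C : Type u := AdicCompletion (maximalIdeal A) A
  haveI : IsNoetherianRing C := Groth.Agent.S0543.result A (maximalIdeal A)
  have hC : (2 : WithBot ℕ∞) ≤ ringKrullDim C := hdim.trans_eq (Groth.Agent.S0547.result A).symm
  obtain ⟨p, q, r, hpq, hqr⟩ := exists_three_chain C hC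
  haveI : IsLocalRing (C ⧸ p.asIdeal) :=
    IsLocalRing.of_surjective' (Ideal.Quotient.mk p.asIdeal) Ideal.Quotient.mk_surjective
  haveI : IsAdicComplete (maximalIdeal C) C := inferInstance
  have hN : CAlg.IsN2 (C ⧸ p.asIdeal) := by
    haveI := p.isPrime
    exact (CompleteNagata.isNagata_of_complete C).2 p.asIdeal
  have hD : (2 : WithBot ℕ∞) ≤ ringKrullDim (C ⧸ p.asIdeal) := by
    rw [ringKrullDim_quotient]
    refine Order.le_krullDim_iff.2 ⟨⟨2, ![⟨p, fun x hx => hx⟩, ⟨q, fun x hx => hpq.le hx⟩, ⟨r, fun x hx => (hpq.trans hqr).le hx⟩], ?_⟩, rfl⟩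
    intro i
    fin_cases i
    · exact hpq
    · exact hqr
  obtain ⟨B, _, _, _, _, _, g, hB, hg⟩ := exists_normal_of_complete (C ⧸ p.asIdeal) hN hD
  let f : A →+* B := g.comp ((Ideal.Quotient.mk p.asIdeal).comp (algebraMap A C))
  have hf : ∀ s : Ideal B, s.IsPrime → (s.comap f = maximalIdeal A ↔ s = maximalIdeal B) := by
    intro s hs
    rw [← hg s hs]
    haveI : (s.comap g).IsPrime := Ideal.IsPrime.comap _
    haveI : ((s.comap g).comap (Ideal.Quotient.mk p.asIdeal)).IsPrime := Ideal.IsPrime.comap _
    change ((s.comap g).comap (Ideal.Quotient.mk p.asIdeal)).comap (algebraMap A C) = _ ↔ _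
    constructor
    · intro h
      have h1 : (maximalIdeal C) ≤ (s.comap g).comap (Ideal.Quotient.mk p.asIdeal) := by
        rw [AdicCompletion.maximalIdeal_eq_map, Ideal.map_le_iff_le_comap]
        exact h.ge
      refine eq_maximalIdeal ?_
      have h2 := ((maximalIdeal.isMaximal C).eq_of_le (Ideal.IsPrime.ne_top ‹_›) h1)
      rw [← Ideal.map_comap_of_surjective _ Ideal.Quotient.mk_surjective (s.comap g), ← h2]
      refine Ideal.IsMaximal.map_of_surjective_of_ker_le Ideal.Quotient.mk_surjective ?_
      exact le_maximalIdeal (by rw [Ideal.mk_ker]; exact p.isPrime.ne_top)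
    · intro h
      haveI : (s.comap g).IsMaximal := h ▸ maximalIdeal.isMaximal _
      haveI : ((s.comap g).comap (Ideal.Quotient.mk p.asIdeal)).IsMaximal :=
        Ideal.comap_isMaximal_of_surjective _ Ideal.Quotient.mk_surjective
      rw [eq_maximalIdeal ‹((s.comap g).comap (Ideal.Quotient.mk p.asIdeal)).IsMaximal›]
      refine ((maximalIdeal.isMaximal A).eq_of_le (Ideal.comap_ne_top _ (maximalIdeal.isMaximal C).ne_top) ?_).symm
      rw [← Ideal.map_le_iff_le_comap, ← AdicCompletion.maximalIdeal_eq_map]
  have := hV.preimage (Spec.map (CommRingCat.ofHom f))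
  rw [preimage_eq f hf] at this
  exact not_isAffineOpen_of_normal B hB this

end Groth.Agent.PunctAffine
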