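import Groth.Agent.PunctAffine.Basic

/-!
# Complements of affine open immersions have codimension one
-/

set_option autoImplicit false
universe u

open CategoryTheory CategoryTheory.Limits AlgebraicGeometry TopologicalSpace

namespace Groth.Agent.PunctAffine

variable (X : Scheme.{u}) [IsLocallyNoetherian X] (U : X.Opens) [IsAffineHom U.ι] (ξ : X)

theorem dim_stalk_le_one (hξ : ξ ∉ U) (hgen : ∀ y : X, y ∉ U → y ⤳ ξ → y = ξ) :
    ringKrullDim (X.presheaf.stalk ξ) ≤ 1 := by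
  let j := X.fromSpecStalk ξ
  have e : j ⁻¹ᵁ U = FEt.puncturedSpec (X.presheaf.stalk ξ) := by
    refine Opens.ext (Set.ext fun z => ?_)
    show j z ∈ U ↔ z ≠ IsLocalRing.closedPoint (X.presheaf.stalk ξ)
    constructor
    · rintro h rfl
      exact hξ (Scheme.fromSpecStalk_closedPoint (X := X) (x := ξ) ▸ h)
    · intro h
      by_contra hU
      have hz : j z ∈ Set.range (X.fromSpecStalk ξ) := ⟨z, rfl⟩
      rw [Scheme.range_fromSpecStalk] at hz
      refine h ((X.fromSpecStalk ξ).isEmbedding.injective ?_)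
      rw [Scheme.fromSpecStalk_closedPoint]
      exact hgen _ hU hz
  haveI : IsAffineHom (pullback.fst j U.ι) := MorphismProperty.pullback_fst _ _ inferInstance
  have h1 : IsAffine (pullback j U.ι) := isAffine_of_isAffineHom (pullback.fst j U.ι)
  have h2 : IsAffine (j ⁻¹ᵁ U : (Spec (X.presheaf.stalk ξ)).Opens).toScheme :=
    IsAffine.of_isIso (pullbackRestrictIsoRestrict j U).inv
  rw [e] at h2
  exact dim_le_one _ h2

omit [IsAffineHom U.ι] in
theorem dim_stalk_ne_zero (hξ : ξ ∉ U) (hcl : ξ ∈ closure (U : Set X)) :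
    1 ≤ ringKrullDim (X.presheaf.stalk ξ) := by
  obtain ⟨_, ⟨W, hW, rfl⟩, hξW, -⟩ :=
    X.isBasis_affineOpens.exists_subset_of_mem_open (Set.mem_univ ξ) isOpen_univ
  haveI : IsNoetherianRing Γ(X, W) := IsLocallyNoetherian.component_noetherian ⟨W, hW⟩
  haveI : NoetherianSpace (Spec Γ(X, W)) := inferInstanceAs (NoetherianSpace (PrimeSpectrum Γ(X, W)))
  let j := hW.fromSpec
  obtain ⟨p, hp⟩ : ξ ∈ Set.range j := by rw [hW.range_fromSpec]; exact hξW
  have hpc : p ∈ closure (j ⁻¹' (U : Set X)) := by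
    rw [← hW.fromSpec.isOpenEmbedding.isOpenMap.preimage_closure_eq_closure_preimage hW.fromSpec.continuous]
    show j p ∈ closure (U : Set X)
    rw [hp]; exact hcl
  obtain ⟨S, hSf, hSc, hS, hSeq⟩ :=
    NoetherianSpace.exists_finite_set_isClosed_irreducible (isClosed_closure (s := j ⁻¹' (U : Set X)))
  let S' : Set (Set (Spec Γ(X, W))) := {Z ∈ S | (Z ∩ j ⁻¹' (U : Set X)).Nonempty}
  have hS' : IsClosed (⋃₀ S') := by
    rw [Set.sUnion_eq_biUnion]
    exact (hSf.subset fun Z hZ => hZ.1).isClosed_biUnion fun Z hZ => hSc Z hZ.1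
  obtain ⟨Z, ⟨hZ, w, hwZ, hwU⟩, hpZ⟩ := closure_minimal (fun w hw => by
    obtain ⟨Z, hZ, hwZ⟩ := (hSeq ▸ subset_closure hw : w ∈ ⋃₀ S)
    exact ⟨Z, ⟨hZ, w, hwZ, hw⟩, hwZ⟩) hS' hpc
  have hη := (hS Z hZ).isGenericPoint_genericPoint (hSc Z hZ)
  have hηU : j (hS Z hZ).genericPoint ∈ U :=
    (hη.specializes hwZ).mem_open (U.isOpen.preimage j.continuous) hwU
  have hsp : j (hS Z hZ).genericPoint ⤳ ξ := hp ▸ (hη.specializes hpZ).map j.continuous
  obtain ⟨q, hq⟩ : j (hS Z hZ).genericPoint ∈ Set.range (X.fromSpecStalk ξ) := by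
    rw [Scheme.range_fromSpecStalk]; exact hsp
  have hne : q ≠ IsLocalRing.closedPoint (X.presheaf.stalk ξ) := fun h => by
    rw [h, Scheme.fromSpecStalk_closedPoint] at hq
    exact hξ (hq ▸ hηU)
  by_contra hd
  have h0 : ringKrullDim (X.presheaf.stalk ξ) ≤ 0 := by
    have hd' := not_le.1 hd
    rcases hn : ringKrullDim (X.presheaf.stalk ξ) with _ | n
    · exact bot_le
    · rw [hn] at hd'
      exact WithBot.coe_le_coe.2 (ENat.lt_one_iff_eq_zero.1 (WithBot.coe_lt_coe.1 hd')).le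
  haveI : Ring.KrullDimLE 0 (X.presheaf.stalk ξ) := Ring.krullDimLE_iff.2 (by exact_mod_cast h0)
  haveI : q.asIdeal.IsPrime := q.isPrime
  exact hne (PrimeSpectrum.ext (IsLocalRing.eq_maximalIdeal (Ideal.IsPrime.isMaximal' q.isPrime)))

theorem dim_stalk_eq_one (hξ : ξ ∉ U) (hgen : ∀ y : X, y ∉ U → y ⤳ ξ → y = ξ)
    (hcl : ξ ∈ closure (U : Set X)) : ringKrullDim (X.presheaf.stalk ξ) = 1 :=
  le_antisymm (dim_stalk_le_one X U ξ hξ hgen) (dim_stalk_ne_zero X U ξ hξ hcl)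

end Groth.Agent.PunctAffine
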